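import Mathlib
import Groth.Agent.H19Grp.FixedLocus
import Groth.Agent.H19Grp.Transporter
import Groth.Agent.H19Grp.Translations
set_option linter.style.haveILetI false
set_option backward.isDefEq.respectTransparency false

/-! Fixed loci of families of endomorphisms over a field. -/

universe u

open CategoryTheory CategoryTheory.Limits MonoidalCategory CartesianMonoidalCategory AlgebraicGeometry

namespace Groth.Agent.H23FixLoc

variable {k : Type u} [Field k] {X Y : Over (Spec (CommRingCat.of k))} (a : Y ⊗ X ⟶ X)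

theorem exists_fixed [IsClosedImmersion (H19Grp.fixLocus a)] :
    ∃ (Z : Over (Spec (CommRingCat.of k))) (j : Z ⟶ X), IsClosedImmersion j.left ∧
      (Y ◁ j) ≫ a = snd Y Z ≫ j ∧
      ∀ (T : Over (Spec (CommRingCat.of k))) (x : T ⟶ X),
        (Y ◁ x) ≫ a = snd Y T ≫ x → ∃ z : T ⟶ Z, z ≫ j = x := by
  obtain ⟨Z, i, hi, h⟩ := H19Grp.exists_closed_fixed a (H19Grp.hasUnivLocally_fst (H19Grp.fixLocus a))
  refine ⟨Z, i, hi, ?_, fun T x hx => (h T x).1 fun T' t g => ?_⟩
  · have := (h Z i).2 ⟨𝟙 Z, Category.id_comp i⟩ (Y ⊗ Z) (snd Y Z) (fst Y Z)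
    rw [← this]
    refine congrArg (· ≫ a) ?_
    apply CartesianMonoidalCategory.hom_ext <;> simp
  · have := congrArg (lift g t ≫ ·) hx
    simpa using this

theorem isClosedImmersion_fixLocus_of_stable
    (hstab : ∀ U : X.left.Opens, (snd Y X).left ⁻¹ᵁ U ≤ a.left ⁻¹ᵁ U) :
    IsClosedImmersion (H19Grp.fixLocus a) := by
  haveI : IsImmersion (lift (𝟙 X) (𝟙 X)).left := by
    rw [H19Grp.lift_id_left_eq_diagonal]; infer_instance
  haveI : IsImmersion (H19Grp.fixLocus a) := by infer_instance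
  refine IsClosedImmersion.iff_isPreimmersion.mpr ⟨inferInstance, isClosed_of_closure_subset fun w hw => ?_⟩
  let w' := (lift (snd X Y) (fst X Y)).left w
  have h2 : (snd X X).left ((H19Grp.actPair a).left w) = (fst X Y).left w := by
    rw [← Scheme.Hom.comp_apply, ← Over.comp_left, lift_snd]
  have h1 : (fst X X).left ((H19Grp.actPair a).left w) = a.left w' := by
    rw [← Scheme.Hom.comp_apply, ← Over.comp_left, lift_fst]; rfl
  have h3 : (snd Y X).left w' = (fst X Y).left w := by
    show (snd Y X).left ((lift (snd X Y) (fst X Y)).left w) = _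
    rw [← Scheme.Hom.comp_apply, ← Over.comp_left, lift_snd]
  obtain ⟨_, ⟨U, hU, rfl⟩, hxU, -⟩ :=
    X.left.isBasis_affineOpens.exists_subset_of_mem_open (Set.mem_univ ((fst X Y).left w)) isOpen_univ
  haveI : IsAffine (U : Scheme.{u}) := hU
  haveI : IsAffineHom (Scheme.Opens.ι U ≫ X.hom) := isAffineHom_of_isAffine _
  have hcl : (H19Grp.actPair a).left w ∈ closure (Set.range (lift (𝟙 X) (𝟙 X)).left) := by
    refine closure_mono ?_ (image_closure_subset_closure_image (H19Grp.actPair a).left.continuous ⟨w, hw, rfl⟩)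
    rintro _ ⟨_, ⟨v, rfl⟩, rfl⟩
    exact ⟨pullback.snd (H19Grp.actPair a).left (lift (𝟙 X) (𝟙 X)).left v, by
      rw [← Scheme.Hom.comp_apply, ← Scheme.Hom.comp_apply, pullback.condition]⟩
  obtain ⟨x, hx⟩ := H19Grp.diag_closed_on_separated U
    (show (fst X X).left _ ∈ U from h1 ▸ hstab U (show (snd Y X).left w' ∈ U from h3 ▸ hxU))
    (show (snd X X).left _ ∈ U from h2 ▸ hxU) hcl
  obtain ⟨t, ht, -⟩ := Scheme.Pullback.exists_preimage_pullback (f := (H19Grp.actPair a).left)
    (g := (lift (𝟙 X) (𝟙 X)).left) w x hx.symm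
  exact ⟨t, ht⟩

end Groth.Agent.H23FixLoc
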